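/-! Codes of the permutations x, y and words for the standard generators of M24. -/

set_option autoImplicit false

namespace Cfsg.Agent.Lib.M24Pres

/-- Code of x. -/
def cX : Nat := 376852489058296726079652316536101294

/-- Code of y. -/
def cY : Nat := 974415487607826092766648923708760108

/-- Code of the inverse of y. -/
def cYi : Nat := 962738135003437944731000646771591211

/-- Word for the shift. -/
def wShift : List Nat := [0, 2, 0, 1, 0, 2, 0, 2, 0, 2, 0, 2, 0, 1, 0, 2, 0, 2, 0, 2, 0, 1, 0, 1, 0, 1, 0, 2, 0, 2, 0, 2, 0, 1, 0, 2, 0, 2, 0, 2, 0, 1, 0, 1, 0, 1, 0, 2, 0, 2, 0, 2]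

/-- Word for the inversion. -/
def wInv : List Nat := [1, 0, 2, 0, 2, 0, 2, 0, 2, 0, 2, 0, 2, 0, 2, 0, 1, 0, 2, 0, 2, 0, 1, 0, 2, 0, 1, 0, 2, 0, 1, 0, 2, 0, 1, 0, 1, 0, 1, 0, 1, 0, 2, 0, 2, 0, 2, 0, 2]

/-- Word for the cube twist. -/
def wTwist : List Nat := [1, 0, 1, 0, 1, 0, 2, 0, 1, 0, 2, 0, 1, 0, 2, 0, 2, 0, 2, 0, 1, 0, 1, 0, 2, 0, 1, 0, 2, 0, 1, 0, 1, 0, 1, 0, 1, 0, 2, 0, 1, 0, 2, 0, 2, 0, 2, 0, 1, 0, 1, 0, 2]

end Cfsg.Agent.Lib.M24Pres
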