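import Cfsg.Agent.Lib.M24Pres.Main
import Cfsg.Agent.Lib.M24Pres.Words
import Cfsg.Agent.Lib.Golay.M24
import Cfsg.Agent.Lib.Golay.Simple

/-! A nontrivial group generated by two elements satisfying the seven relators is M24. -/

set_option autoImplicit false
set_option maxRecDepth 20000
set_option Elab.async false

namespace Cfsg.Agent.Lib.M24Pres

open Cfsg Cfsg.Agent.Lib.Golay Cfsg.Agent.Lib.Computation

/-- The code of a letter. -/
def lcode : ℕ → ℕ
  | 0 => cX
  | 1 => cY
  | 2 => cYi
  | _ => Golay.oneCode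

/-- The code of a word. -/
def wcode : List ℕ → ℕ
  | [] => Golay.oneCode
  | c :: l => mulP 24 5 (lcode c) (wcode l)

theorem codes_ok : inM24 cX = true ∧ inM24 cY = true ∧ inM24 cYi = true ∧
    mulP 24 5 cY cYi = Golay.oneCode := by decide +kernel

theorem okCode_lcode : ∀ c, okCode (lcode c) = true
  | 0 => okCode_of_inM24 codes_ok.1
  | 1 => okCode_of_inM24 codes_ok.2.1
  | 2 => okCode_of_inM24 codes_ok.2.2.1
  | _ + 3 => okCode_oneCode

theorem okCode_wcode : ∀ l, okCode (wcode l) = true
  | [] => okCode_oneCode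
  | c :: l => okCode_mulP (okCode_lcode c) (okCode_wcode l)

theorem gperm_lcode (c : ℕ) : gperm (lcode c) = lval (gperm cX) (gperm cY) c := by
  match c with
  | 0 => rfl
  | 1 => rfl
  | 2 =>
    show gperm cYi = (gperm cY)⁻¹
    refine eq_inv_of_mul_eq_one_right ?_
    rw [← gperm_mul (a := cY) (b := cYi) (okCode_lcode 1) (okCode_lcode 2)]
    show gperm (mulP 24 5 cY cYi) = 1
    rw [codes_ok.2.2.2, gperm_oneCode]
  | _ + 3 => exact gperm_oneCode

theorem wval_gperm : ∀ l, wval (gperm cX) (gperm cY) l = gperm (wcode l)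
  | [] => gperm_oneCode.symm
  | c :: l => by
    rw [wcode, gperm_mul (okCode_lcode c) (okCode_wcode l), gperm_lcode, ← wval_gperm l]
    rfl

theorem words_ok : wcode wShift = shiftCode ∧ wcode wInv = invCode ∧ wcode wTwist = twistCode ∧
    (R7.all fun r => Nat.beq (wcode r) Golay.oneCode) = true := by decide +kernel

theorem wval_mem {G : Type*} [Group G] (x y : G) : ∀ l : List ℕ,
    wval x y l ∈ Subgroup.closure ({x, y} : Set G)
  | [] => Subgroup.one_mem _
  | c :: l => by
    refine Subgroup.mul_mem _ ?_ (wval_mem x y l)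
    match c with
    | 0 => exact Subgroup.subset_closure (Set.mem_insert x {y})
    | 1 => exact Subgroup.subset_closure (Set.mem_insert_of_mem x rfl)
    | 2 => exact Subgroup.inv_mem _ (Subgroup.subset_closure (by simp))
    | _ + 3 => exact Subgroup.one_mem _

theorem wval_map {G H : Type*} [Group G] [Group H] (f : G →* H) (x y : G) (l : List ℕ) :
    f (wval x y l) = wval (f x) (f y) l := by
  rw [wval, wval, map_list_prod, List.map_map]
  congr 1
  refine List.map_congr_left fun c _ => ?_
  match c with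
  | 0 => rfl
  | 1 => rfl
  | 2 => exact map_inv f y
  | _ + 3 => exact map_one f

theorem closure_gperm : Subgroup.closure {gperm cX, gperm cY} = M24 := by
  refine le_antisymm ?_ ?_
  · rw [Subgroup.closure_le]
    rintro σ (rfl | rfl)
    exacts [gperm_mem_M24 codes_ok.1, gperm_mem_M24 codes_ok.2.1]
  · rw [← closure_gens_eq, genGroup, Subgroup.closure_le]
    obtain ⟨h1, h2, h3, -⟩ := words_ok
    rintro σ (rfl | rfl | rfl)
    · rw [shift_eq, ← h1, ← wval_gperm]; exact wval_mem _ _ _
    · rw [projInv_eq, ← h2, ← wval_gperm]; exact wval_mem _ _ _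
    · rw [cubeTwist_eq, ← h3, ← wval_gperm]; exact wval_mem _ _ _

/-- Two elements satisfying the seven relators, the first of them nontrivial, generate M24. -/
theorem nonempty_equiv {G : Type*} [Group G] (x y : G) (h : ∀ r ∈ R7, wval x y r = 1)
    (hx : x ≠ 1) : Nonempty (Subgroup.closure ({x, y} : Set G) ≃* M24) := by
  set p : Equiv.Perm GolayPt × G := (gperm cX, x) with hp
  set q : Equiv.Perm GolayPt × G := (gperm cY, y) with hq
  have hpq : ∀ r ∈ R7, wval p q r = 1 := by
    intro r hr
    refine Prod.ext ?_ ?_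
    · show (MonoidHom.fst _ _) (wval p q r) = 1
      rw [wval_map]
      show wval (gperm cX) (gperm cY) r = 1
      rw [wval_gperm, Nat.eq_of_beq_eq_true (List.all_eq_true.1 words_ok.2.2.2 r hr), gperm_oneCode]
    · show (MonoidHom.snd _ _) (wval p q r) = 1
      rw [wval_map]
      exact h r hr
  obtain ⟨hne, hle⟩ := card_closure_le p q hpq
  set D := Subgroup.closure ({p, q} : Set (Equiv.Perm GolayPt × G)) with hD
  haveI : Finite D := Nat.finite_of_card_ne_zero hne
  have hmap1 : D.map (MonoidHom.fst _ _) = M24 := by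
    rw [hD, MonoidHom.map_closure, Set.image_pair]
    exact closure_gperm
  have hmap2 : D.map (MonoidHom.snd _ _) = Subgroup.closure ({x, y} : Set G) := by
    rw [hD, MonoidHom.map_closure, Set.image_pair]
    rfl
  set π : D →* M24 := ((MonoidHom.fst _ _).comp D.subtype).codRestrict M24 fun z =>
    hmap1 ▸ ⟨z.1, z.2, rfl⟩ with hπ
  have hsurj : Function.Surjective π := by
    rintro ⟨s, hs⟩
    rw [← hmap1] at hs
    obtain ⟨z, hz, rfl⟩ := hs
    exact ⟨⟨z, hz⟩, Subtype.ext rfl⟩
  have hcard : Nat.card D = Nat.card M24 := by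
    rw [card_M24]
    exact le_antisymm hle (card_M24 ▸ Nat.card_le_card_of_surjective π hsurj)
  let e : D ≃* M24 := MulEquiv.ofBijective π ((Nat.bijective_iff_surjective_and_card π).2 ⟨hsurj, hcard⟩)
  let θ : M24 →* G := ((MonoidHom.snd _ _).comp D.subtype).comp e.symm.toMonoidHom
  have hrange : θ.range = Subgroup.closure ({x, y} : Set G) := by
    rw [← hmap2]
    ext g
    constructor
    · rintro ⟨m, rfl⟩
      exact ⟨(e.symm m).1, (e.symm m).2, rfl⟩
    · rintro ⟨z, hz, rfl⟩
      exact ⟨e ⟨z, hz⟩, by simp [θ]⟩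
  haveI : IsSimpleGroup M24 := isSimple_M24
  have hinj : Function.Injective θ := by
    refine (MonoidHom.ker_eq_bot_iff θ).1
      ((inferInstance : θ.ker.Normal).eq_bot_or_eq_top.resolve_right fun htop => hx ?_)
    have hx' : x ∈ θ.range := hrange ▸ Subgroup.subset_closure (by simp)
    obtain ⟨m, hm⟩ := hx'
    rw [← hm]
    exact MonoidHom.mem_ker.1 (htop ▸ Subgroup.mem_top m)
  exact ⟨((MonoidHom.ofInjective hinj).trans (MulEquiv.subgroupCongr hrange)).symm⟩

end Cfsg.Agent.Lib.M24Pres
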