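import Cfsg.Agent.Lib.M24Pres.Pres
import Cfsg.Agent.Lib.CosetEnum.Word

/-! An order bound for a subgroup generated by letters: 3 cosets. -/

set_option autoImplicit false
set_option maxRecDepth 20000
set_option Elab.async false

namespace Cfsg.Agent.Lib.M24Pres.B1

open Cfsg.Agent.Lib.CosetEnum

/-- Coset table. -/
noncomputable def table : PTree :=
  .leaf 0x10000000000000000000000020000000200000001

/-- Vertices of the final cosets. -/
noncomputable def vert : PTree :=
  .leaf 0x20000000100000000

/-- Facts of the table edges. -/
noncomputable def edge : PTree :=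
  .leaf 0x30000000400000001000000020000000500000000

/-- All facts. -/
noncomputable def facts : PTree :=
  .leaf 0x2000000000000000200000001000000000000000100000000

/-- Packed words. -/
noncomputable def words : PTree :=
  .node 2
  (.node 1
  (.leaf 0x1)
  (.leaf 0x8000))
  (.node 3
  (.leaf 0x401)
  (.leaf 0x420))

/-- The certificate data. -/
noncomputable def data : Data :=
  ⟨2, 0x801, facts, words, 4, 4⟩

/-- Steps, part 0. -/
noncomputable def part0 : List (ℕ × ℕ) :=
  [(1, 0x20000000000000000000000020000000100000000)]

theorem part0_ok : chunks data part0 2 = true ∧ 3 = 2 + chunksLen part0 :=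
  ⟨by decide +kernel, by decide +kernel⟩

theorem defs_ok : defsOK data 2 = true := by decide +kernel

theorem good (G : Type) (_ : Group G) (φ : ℕ → G) (H : Subgroup G) (hV : Valid data φ H) :
    ∀ i < 3, Good data 2 φ H i :=
  (chunks_sound hV part0 part0_ok.1 part0_ok.2
      (fun i hi => good_defs defs_ok hi))

theorem edges_part0 : allFrom 0 3 (edgeAt data 3 3 table vert edge) = true := by decide +kernel

theorem edges_ok : edgesOK data 3 3 table vert edge = true :=
  (allBelow_add (rfl : allBelow 0 (edgeAt data 3 3 table vert edge) = true) edges_part0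
    (by omega : 0 + 3 = 3))

theorem rl_ok : ∀ l ∈ ([[],
    [0, 0, 0],
    [0, 1],
    [1, 0]] : List (List ℕ)), (∀ g ∈ l, g < 2) ∧
    (embWord [6, 7] l ∈ letters.RL) := by
  decide +kernel

/-- The order bound. -/
theorem bound :
    Nat.card (subOf letters pres (([6, 7] : List ℕ).map fun g => [g])) ≠ 0 ∧
    Nat.card (subOf letters pres (([6, 7] : List ℕ).map fun g => [g])) ≤ 3 :=
  card_le_of_enum_of_trivial letters pres rels_mem letters_ok [6, 7]
    data 2 3 3 table vert edge (by omega) rfl (by decide +kernel) (by decide +kernel)
    (by decide +kernel) [[],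
    [0, 0, 0],
    [0, 1],
    [1, 0]] []
    (fun l hl => ⟨(rl_ok l hl).1, Letters.prod_rel rels_mem letters_ok letters_col (rl_ok l hl).2⟩)
    (by decide +kernel) rfl rfl (by decide +kernel)
    (fun φ H hV => good _ _ φ H hV) (by decide +kernel) edges_ok 1 (card_subOf_nil _ _)

end Cfsg.Agent.Lib.M24Pres.B1
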