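import Cfsg.Agent.Lib.M24Pres.B4

/-! The order bound for the presentation on six generators. -/

set_option autoImplicit false
set_option maxRecDepth 20000
set_option Elab.async false

namespace Cfsg.Agent.Lib.M24Pres

open Cfsg.Agent.Lib.CosetEnum

theorem card_le : Nat.card (PresentedGroup pres) ≠ 0 ∧ Nat.card (PresentedGroup pres) ≤ 10200960 := by
  have h := B4.bound
  have htop : subOf letters pres (([0, 1, 2, 3, 4, 5, 6, 7, 8, 9, 10, 11] : List ℕ).map fun g => [g]) = ⊤ :=
    subOf_range_eq_top letters pres letters_col
  rw [htop, Subgroup.card_top] at h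
  exact h

end Cfsg.Agent.Lib.M24Pres
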