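import Cfsg.Agent.Lib.M24Pres.Schreier

/-! Schreier data for the generating pair x, y of M24 and its presentation by seven relators. -/

set_option autoImplicit false
set_option maxRecDepth 20000
set_option Elab.async false

namespace Cfsg.Agent.Lib.M24Pres

/-- The seven relators in the letters x, y, y⁻¹. -/
def R7 : List (List ℕ) := [[1, 1, 1],
    [0, 1, 0, 1, 0, 1, 0, 1, 0, 1, 0, 1, 0, 1, 0, 1, 0, 1, 0, 1, 0, 1, 0, 1, 0, 1, 0, 1, 0, 1, 0, 1, 0, 1, 0, 1, 0, 1, 0, 1, 0, 1, 0, 1, 0, 1],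
    [0, 2, 0, 1, 0, 2, 0, 1, 0, 2, 0, 1, 0, 2, 0, 1, 0, 2, 0, 1, 0, 2, 0, 1, 0, 2, 0, 1, 0, 2, 0, 1, 0, 2, 0, 1, 0, 2, 0, 1, 0, 2, 0, 1, 0, 2, 0, 1],
    [0, 2, 0, 2, 0, 1, 0, 1, 0, 2, 0, 2, 0, 1, 0, 1, 0, 2, 0, 2, 0, 1, 0, 1, 0, 2, 0, 2, 0, 1, 0, 1, 0, 2, 0, 2, 0, 1, 0, 1],
    [0, 1, 0, 1, 0, 2, 0, 1, 0, 2, 0, 1, 0, 2, 0, 1, 0, 1, 0, 2, 0, 1, 0, 2, 0, 1, 0, 2, 0, 1, 0, 1, 0, 2, 0, 1, 0, 2, 0, 1, 0, 2, 0, 1, 0, 1, 0, 2, 0, 1, 0, 2, 0, 1, 0, 2],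
    [0, 1, 0, 1, 0, 2, 0, 1, 0, 1, 0, 2, 0, 1, 0, 1, 0, 2, 0, 1, 0, 2, 0, 2, 0, 1, 0, 2, 0, 2, 0, 1, 0, 2, 0, 2],
    [0, 0]]

/-- Coset table, transversal, edge variables. -/
def sdata : SData where
  n := 24
  tab := [1, 2, 3, 0, 4, 5, 6, 3, 0, 7, 0, 2, 8, 5, 1, 9, 1, 4, 2, 10, 11, 3, 12, 13, 4, 14, 15, 5, 9, 9, 16, 11, 6, 17, 6, 10, 18, 13, 7, 19, 7, 12, 15, 15, 8, 14, 8, 14, 10, 16, 16, 11, 17, 17, 12, 18, 18, 13, 20, 21, 22, 21, 19, 23, 19, 20, 20, 22, 22, 21, 23, 23]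
  tw := [[],
    [0],
    [1],
    [2],
    [0, 1],
    [0, 2],
    [1, 0],
    [2, 0],
    [0, 1, 0],
    [0, 2, 0],
    [1, 0, 1],
    [1, 0, 2],
    [2, 0, 1],
    [2, 0, 2],
    [0, 1, 0, 1],
    [0, 1, 0, 2],
    [1, 0, 1, 0],
    [1, 0, 2, 0],
    [2, 0, 1, 0],
    [2, 0, 2, 0],
    [2, 0, 2, 0, 1],
    [2, 0, 2, 0, 2],
    [2, 0, 2, 0, 1, 0],
    [2, 0, 2, 0, 2, 0]]
  lab := [[],
    [],
    [],
    [0],
    [],
    [],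
    [],
    [2],
    [],
    [],
    [],
    [3],
    [],
    [4],
    [],
    [],
    [],
    [5],
    [6],
    [],
    [],
    [8],
    [],
    [],
    [10],
    [],
    [],
    [12],
    [14],
    [15],
    [],
    [16],
    [],
    [],
    [],
    [17],
    [],
    [18],
    [],
    [],
    [],
    [19],
    [20],
    [22],
    [],
    [24],
    [],
    [23],
    [26],
    [28],
    [29],
    [30],
    [32],
    [33],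
    [34],
    [36],
    [37],
    [38],
    [],
    [],
    [],
    [40],
    [],
    [],
    [],
    [41],
    [42],
    [44],
    [45],
    [46],
    [48],
    [49]]
  edges := [3, 7, 13, 18, 21, 24, 27, 28, 31, 37, 42, 43, 45, 48, 49, 51, 52, 54, 55, 57, 61, 66, 67, 69, 70]

/-- Eliminations. -/
def steps : List (ℕ × ℕ × ℕ × ℕ) := [(8, 0, 0, 0), (0, 0, 0, 0), (1, 0, 0, 0), (6, 0, 0, 0), (7, 0, 0, 0), (19, 0, 0, 0), (0, 6, 0, 0), (2, 6, 0, 0), (3, 6, 0, 0), (4, 6, 0, 0), (5, 6, 0, 0), (10, 6, 0, 0), (11, 6, 0, 0), (13, 6, 0, 0), (20, 6, 0, 0), (21, 6, 0, 0), (12, 6, 0, 0), (14, 6, 0, 0), (13, 5, 0, 2)]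

/-- The six surviving variables. -/
def kept : List ℕ := [7, 12, 14, 16, 22, 24]

/-- The substitution after all eliminations. -/
def sigmaFin : List (List ℕ) := [[],
    [],
    [],
    [],
    [],
    [],
    [],
    [14],
    [],
    [],
    [25],
    [],
    [24],
    [],
    [28],
    [],
    [32],
    [],
    [15, 44, 14],
    [],
    [],
    [],
    [44],
    [],
    [48]]

/-- For each relator of the six generators, the relator and coset it comes from. -/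
def witness : List (ℕ × ℕ × ℕ) := [(9, 0, 0), (16, 0, 0), (17, 0, 0), (18, 0, 1), (23, 0, 0), (0, 1, 0), (1, 1, 0), (3, 1, 0), (5, 1, 0), (11, 1, 0), (13, 1, 0), (15, 1, 0), (21, 1, 0), (0, 2, 0), (1, 2, 0), (2, 2, 0), (3, 2, 0), (4, 2, 0), (5, 2, 0), (7, 2, 0), (9, 2, 0), (11, 2, 0), (13, 2, 0), (15, 2, 0), (17, 2, 0), (19, 2, 0), (21, 2, 0), (23, 2, 0), (0, 3, 0), (1, 3, 0), (2, 3, 0), (3, 3, 0), (4, 3, 0), (5, 3, 0), (6, 3, 0), (7, 3, 0), (8, 3, 0), (9, 3, 0), (10, 3, 0), (11, 3, 0), (12, 3, 0), (13, 3, 0), (14, 3, 0), (15, 3, 0), (17, 3, 0), (18, 3, 0), (19, 3, 0), (20, 3, 0), (21, 3, 0), (22, 3, 0), (23, 3, 0), (0, 4, 0), (1, 4, 0), (2, 4, 0), (3, 4, 0), (4, 4, 0), (5, 4, 0), (6, 4, 0), (7, 4, 0), (8, 4, 0), (9, 4, 0), (10, 4, 0), (11, 4, 0), (12, 4, 0), (13, 4, 0), (14, 4, 0), (15, 4, 0), (16, 4, 0), (17, 4, 0), (18, 4, 0), (19,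 4, 0), (20, 4, 0), (21, 4, 0), (22, 4, 0), (23, 4, 0), (0, 5, 0), (1, 5, 0), (2, 5, 0), (3, 5, 0), (4, 5, 0), (5, 5, 0), (6, 5, 0), (7, 5, 0), (8, 5, 0), (9, 5, 0), (10, 5, 0), (12, 5, 0), (14, 5, 0), (15, 5, 0), (16, 5, 0), (18, 5, 0), (20, 5, 0), (21, 5, 0), (22, 5, 0), (23, 5, 0)]

end Cfsg.Agent.Lib.M24Pres
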