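import Cfsg.Agent.Lib.M24Pres.Data
import Cfsg.Agent.Lib.M24Pres.Bound

/-! A group generated by two elements satisfying the seven relators has order at most that of M24. -/

set_option autoImplicit false
set_option maxRecDepth 20000
set_option Elab.async false

namespace Cfsg.Agent.Lib.M24Pres

open Cfsg.Agent.Lib.CosetEnum

theorem sdata_ok : sdata.ok = true := by decide +kernel

theorem final_eq : sdata.final R7 steps = sigmaFin := by decide +kernel

theorem R7_lt : (R7.all fun r => r.all fun c => Nat.blt c 3) = true ∧
    R7.getD 0 [] = [1, 1, 1] ∧ R7.getD 6 [] = [0, 0] ∧ R7.length = 7 := by decide +kernel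

/-- A letter of the six generators as a signed variable. -/
def back (g : ℕ) : ℕ := 2 * kept.getD (g / 2) 0 + g % 2

theorem witness_ok : Rels0.length = witness.length ∧ ((List.range Rels0.length).all fun j =>
    decide (sdata.core sigmaFin R7 (witness.getD j (0, 0, 0)).1 (witness.getD j (0, 0, 0)).2.1
      (witness.getD j (0, 0, 0)).2.2 = some ((Rels0.getD j []).map back))) = true := by
  decide +kernel

theorem kept_ok : ((List.range sdata.edges.length).all fun e =>
      (sigmaFin.getD e [2 * e]).all fun v => kept.contains (v / 2)) = true ∧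
    (sdata.lab.all fun l => l.all fun v => Nat.blt (v / 2) sdata.edges.length) = true ∧
    kept.length = 6 := by decide +kernel

variable {G : Type*} [Group G] (x y : G)

/-- Two elements satisfying the seven relators generate a group no larger than M24. -/
theorem card_closure_le (h : ∀ r ∈ R7, wval x y r = 1) :
    Nat.card (Subgroup.closure ({x, y} : Set G)) ≠ 0 ∧
      Nat.card (Subgroup.closure ({x, y} : Set G)) ≤ 244823040 := by
  obtain ⟨hlt, h0, h6, hlen⟩ := R7_lt
  simp only [List.all_eq_true, Nat.blt_eq] at hlt
  have hmem : ∀ i < 7, R7.getD i [] ∈ R7 := by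
    intro i hi
    rw [List.getD_eq_getElem _ _ (by omega)]
    exact List.getElem_mem _
  have hy : y ^ 3 = 1 := by
    have := h _ (hmem 0 (by omega))
    rw [h0] at this
    simpa [wval, lval, pow_succ, mul_assoc] using this
  have hx : x * x = 1 := by
    have := h _ (hmem 6 (by omega))
    rw [h6] at this
    simpa [wval, lval] using this
  have hR : ∀ r ∈ R7, (∀ c ∈ r, c < 3) ∧ wval x y r = 1 := fun r hr => ⟨hlt r hr, h r hr⟩
  have hσ : Correct (sdata.V x y) sigmaFin :=
    final_eq ▸ sdata.final_spec hx y sdata_ok R7 hR steps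
  set V := sdata.V x y with hV
  -- the homomorphism from the six generator presentation
  set f : Fin 6 → G := fun a => V (kept.getD a.1 0) with hf
  have hval : ∀ g < 12, (if (symG g).2 then f (symG g).1 else (f (symG g).1)⁻¹) = sval V (back g) := by
    intro g hg
    simp only [symG, sval, back, f, show g / 2 % 6 = g / 2 by omega,
      show (2 * kept.getD (g / 2) 0 + g % 2) % 2 = g % 2 by omega,
      show (2 * kept.getD (g / 2) 0 + g % 2) / 2 = kept.getD (g / 2) 0 by omega]
  have hrel : ∀ r ∈ pres, FreeGroup.lift f r = 1 := by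
    intro r hr
    obtain ⟨l, hl, rfl⟩ := List.mem_map.1 hr
    obtain ⟨j, hj, rfl⟩ := List.mem_iff_getElem.1 hl
    have hw := List.all_eq_true.1 witness_ok.2 j (List.mem_range.2 hj)
    rw [decide_eq_true_eq, List.getD_eq_getElem _ _ hj] at hw
    have h1 := sdata.core_spec hx y sdata_ok R7 hR hσ hw
    rw [FreeGroup.lift_mk, List.map_map, ← h1, List.map_map]
    congr 1
    refine List.map_congr_left fun g hg => ?_
    have hg' : g < 12 := by
      have hall : ∀ l ∈ Rels0, ∀ g ∈ l, g < 12 := by decide +kernel
      exact hall _ (List.getElem_mem hj) g hg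
    rw [Function.comp_apply, Function.comp_apply, ← hval g hg']
    cases (symG g).2 <;> rfl
  let ψ : PresentedGroup pres →* G := PresentedGroup.toGroup hrel
  obtain ⟨hne, hle⟩ := card_le
  haveI : Finite (PresentedGroup pres) := Nat.finite_of_card_ne_zero hne
  haveI : Finite ψ.range := Finite.of_surjective _ ψ.rangeRestrict_surjective
  have hH : Nat.card ψ.range ≠ 0 ∧ Nat.card ψ.range ≤ 10200960 :=
    ⟨Nat.card_pos.ne', (Nat.card_le_card_of_surjective _ ψ.rangeRestrict_surjective).trans hle⟩
  obtain ⟨hk1, hk2, hk3⟩ := kept_ok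
  have hV_mem : ∀ e < sdata.edges.length, V e ∈ ψ.range := by
    intro e he
    rw [← hσ e]
    refine Subgroup.list_prod_mem _ fun z hz => ?_
    obtain ⟨v, hv, rfl⟩ := List.mem_map.1 hz
    have := List.all_eq_true.1 (List.all_eq_true.1 hk1 e (List.mem_range.2 he)) v hv
    rw [List.contains_iff_mem, List.mem_iff_getElem] at this
    obtain ⟨i, hi, hik⟩ := this
    have hi6 : i < 6 := hk3 ▸ hi
    have hVm : V (v / 2) ∈ ψ.range :=
      ⟨PresentedGroup.of ⟨i, hi6⟩, by
        rw [PresentedGroup.toGroup.of, ← hik]
        simp only [f, List.getD_eq_getElem _ _ hi]⟩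
    unfold sval
    split
    · exact hVm
    · exact ψ.range.inv_mem hVm
  have hgen : ∀ i < sdata.n, ∀ c < 3, sdata.S x y i c ∈ ψ.range := by
    intro i hi c hc
    have hok := sdata_ok
    simp only [SData.ok, Bool.and_eq_true, List.all_eq_true] at hok
    rw [sdata.edge_spec hx y hc (hok.2 i (List.mem_range.2 hi) c (by interval_cases c <;> simp))]
    refine Subgroup.list_prod_mem _ fun z hz => ?_
    obtain ⟨v, hv, rfl⟩ := List.mem_map.1 hz
    have hmemL : sdata.L i c ∈ sdata.lab := by
      by_contra hcon
      rw [SData.L] at hcon hv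
      rw [List.getD_eq_getElem?_getD] at hcon hv
      cases hget : sdata.lab[3 * i + c]? with
      | none => simp [hget] at hv
      | some l => exact hcon (by simp only [hget, Option.getD_some]; exact List.mem_of_getElem? hget)
    have he := List.all_eq_true.1 (List.all_eq_true.1 hk2 _ hmemL) v hv
    rw [Nat.blt_eq] at he
    unfold sval
    split
    · exact hV_mem _ he
    · exact ψ.range.inv_mem (hV_mem _ he)
  have := sdata.card_closure_le hx hy sdata_ok ψ.range hH hgen
  exact ⟨this.1, this.2.trans (by show 24 * 10200960 ≤ 244823040; norm_num)⟩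

end Cfsg.Agent.Lib.M24Pres
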