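import Cfsg.Agent.Lib.CosetEnum.Ident

/-! A presentation of M23 on six Schreier generators (letters in inverse pairs). -/

set_option autoImplicit false
set_option maxRecDepth 20000
set_option Elab.async false

namespace Cfsg.Agent.Lib.M24Pres

open Cfsg.Agent.Lib.CosetEnum

/-- Relator words. -/
def RL0 : List (List ℕ) := [[],
    [0, 0, 0],
    [4, 4, 4],
    [6, 6, 6],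
    [8, 8, 8],
    [10, 10, 10],
    [3, 0, 4, 6, 1, 8, 0, 8, 10],
    [4, 6, 1, 8, 0, 8, 10, 3, 0],
    [1, 8, 0, 8, 10, 3, 0, 4, 6],
    [0, 4, 6, 1, 8, 0, 8, 10, 3],
    [6, 1, 8, 0, 8, 10, 3, 0, 4],
    [8, 10, 3, 0, 4, 6, 1, 8, 0],
    [2, 2, 2, 2, 2, 2, 2, 2, 2, 2, 2, 2, 2, 2, 2, 2, 2, 2, 2, 2, 2, 2, 2],
    [10, 3, 0, 4, 6, 1, 8, 0, 8],
    [0, 3, 3, 6, 4, 9, 11, 1, 8, 0],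
    [1, 9, 0, 10, 8, 5, 7, 2, 2, 1],
    [6, 4, 9, 11, 1, 8, 0, 0, 3, 3],
    [9, 11, 1, 8, 0, 0, 3, 3, 6, 4],
    [2, 2, 1, 1, 9, 0, 10, 8, 5, 7],
    [1, 1, 9, 0, 10, 8, 5, 7, 2, 2],
    [5, 7, 2, 2, 1, 1, 9, 0, 10, 8],
    [3, 3, 6, 4, 9, 11, 1, 8, 0, 0],
    [7, 2, 2, 1, 1, 9, 0, 10, 8, 5],
    [10, 8, 5, 7, 2, 2, 1, 1, 9, 0],
    [2, 1, 1, 9, 0, 10, 8, 5, 7, 2],
    [4, 9, 11, 1, 8, 0, 0, 3, 3, 6],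
    [1, 8, 0, 0, 3, 3, 6, 4, 9, 11],
    [11, 1, 8, 0, 0, 3, 3, 6, 4, 9],
    [8, 5, 7, 2, 2, 1, 1, 9, 0, 10],
    [1, 7, 10, 1, 9, 0, 9],
    [8, 1, 8, 0, 11, 6, 0],
    [7, 10, 1, 9, 0, 9, 1],
    [10, 1, 9, 0, 9, 1, 7],
    [2, 0, 2, 2, 2, 5, 1, 9, 0],
    [1, 3, 1, 8, 0, 4, 3, 3, 3],
    [0, 8, 1, 8, 0, 11, 6],
    [6, 0, 8, 1, 8, 0, 11],
    [1, 8, 0, 4, 3, 3, 3, 1, 3],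
    [2, 2, 2, 5, 1, 9, 0, 2, 0],
    [5, 1, 9, 0, 2, 0, 2, 2, 2],
    [7, 4, 7, 4, 7, 4, 7, 4, 7, 4],
    [1, 9, 0, 2, 0, 2, 2, 2, 5],
    [11, 6, 0, 8, 1, 8, 0],
    [3, 3, 3, 1, 3, 1, 8, 0, 4],
    [2, 5, 1, 9, 0, 2, 0, 2, 2],
    [5, 6, 5, 6, 5, 6, 5, 6, 5, 6],
    [4, 3, 3, 3, 1, 3, 1, 8, 0],
    [1, 9, 0, 9, 1, 7, 10],
    [9, 1, 7, 10, 1, 9, 0],
    [11, 8, 11, 8, 11, 8, 11, 8, 11, 8],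
    [1, 8, 0, 11, 6, 0, 8],
    [9, 10, 9, 10, 9, 10, 9, 10, 9, 10],
    [3, 3, 6, 2, 2, 0, 3, 3, 5, 7],
    [5, 7, 3, 3, 6, 2, 2, 0, 3, 3],
    [4, 9, 10, 8, 4, 9, 10, 8],
    [1, 8, 0, 0, 3, 6, 4, 7, 2, 2, 2, 1],
    [3, 6, 4, 7, 2, 2, 2, 1, 1, 8, 0, 0],
    [9, 0, 10, 1, 8, 0, 9, 0, 10, 1, 8, 0],
    [1, 9, 0, 10, 8, 11, 1, 8, 0, 2, 2, 1, 6, 4],
    [2, 2, 1, 6, 4, 1, 9, 0, 10, 8, 11, 1, 8, 0],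
    [0, 3, 3, 5, 7, 3, 3, 6, 2, 2],
    [6, 4, 1, 9, 0, 10, 8, 11, 1, 8, 0, 2, 2, 1],
    [4, 7, 2, 2, 2, 1, 1, 8, 0, 0, 3, 6],
    [6, 2, 2, 0, 3, 3, 5, 7, 3, 3],
    [1, 8, 0, 10, 8, 0, 3, 3, 1, 1, 9, 0, 9, 11],
    [8, 5, 6, 4, 8, 5, 6, 4],
    [3, 1, 1, 9, 0, 9, 11, 1, 8, 0, 10, 8, 0, 3],
    [2, 2, 2, 1, 1, 8, 0, 0, 3, 6, 4, 7],
    [6, 4, 8, 5, 6, 4, 8, 5],
    [9, 11, 5, 7, 9, 11, 5, 7],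
    [9, 11, 1, 8, 0, 10, 8, 0, 3, 3, 1, 1, 9, 0],
    [0, 3, 3, 1, 1, 9, 0, 9, 11, 1, 8, 0, 10, 8],
    [8, 11, 1, 8, 0, 2, 2, 1, 6, 4, 1, 9, 0, 10],
    [10, 1, 8, 0, 9, 0, 10, 1, 8, 0, 9, 0],
    [10, 8, 4, 9, 10, 8, 4, 9],
    [5, 7, 9, 11, 5, 7, 9, 11],
    [3, 3, 1, 6, 5, 7, 4],
    [5, 6, 4, 7, 0, 2, 2],
    [4, 1, 9, 0, 9, 11, 8, 1, 8, 0],
    [1, 8, 0, 2, 2, 2, 1, 3, 3, 3],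
    [3, 5, 6, 4, 2, 1],
    [8, 0, 2, 2, 7],
    [1, 9, 0, 9, 10, 8, 1, 8, 0, 5],
    [2, 2, 2, 0, 3, 3, 3, 1, 9, 0],
    [0, 3, 5, 7, 4, 2],
    [6, 3, 3, 1, 9],
    [4, 7, 8, 6, 5, 7],
    [1, 8, 0, 10, 1, 8, 0, 10, 9, 11, 8],
    [3, 1, 6, 2, 1, 3, 3],
    [2, 2, 2, 0, 3, 7, 0],
    [6, 4, 7, 9, 6, 5],
    [9, 10, 8, 11, 1, 9, 0, 11, 1, 9, 0],
    [8, 11, 4, 10, 9, 11],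
    [10, 1, 8, 0, 10, 1, 8, 0, 5],
    [10, 8, 11, 5, 10, 9],
    [4, 1, 9, 0, 11, 1, 9, 0, 11],
    [0, 1],
    [1, 0],
    [2, 3],
    [3, 2],
    [4, 5],
    [5, 4],
    [6, 7],
    [7, 6],
    [8, 9],
    [9, 8],
    [10, 11],
    [11, 10]]

/-- The relator words proper. -/
def Rels0 : List (List ℕ) := [[0, 0, 0],
    [4, 4, 4],
    [6, 6, 6],
    [8, 8, 8],
    [10, 10, 10],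
    [3, 0, 4, 6, 1, 8, 0, 8, 10],
    [4, 6, 1, 8, 0, 8, 10, 3, 0],
    [1, 8, 0, 8, 10, 3, 0, 4, 6],
    [0, 4, 6, 1, 8, 0, 8, 10, 3],
    [6, 1, 8, 0, 8, 10, 3, 0, 4],
    [8, 10, 3, 0, 4, 6, 1, 8, 0],
    [2, 2, 2, 2, 2, 2, 2, 2, 2, 2, 2, 2, 2, 2, 2, 2, 2, 2, 2, 2, 2, 2, 2],
    [10, 3, 0, 4, 6, 1, 8, 0, 8],
    [0, 3, 3, 6, 4, 9, 11, 1, 8, 0],
    [1, 9, 0, 10, 8, 5, 7, 2, 2, 1],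
    [6, 4, 9, 11, 1, 8, 0, 0, 3, 3],
    [9, 11, 1, 8, 0, 0, 3, 3, 6, 4],
    [2, 2, 1, 1, 9, 0, 10, 8, 5, 7],
    [1, 1, 9, 0, 10, 8, 5, 7, 2, 2],
    [5, 7, 2, 2, 1, 1, 9, 0, 10, 8],
    [3, 3, 6, 4, 9, 11, 1, 8, 0, 0],
    [7, 2, 2, 1, 1, 9, 0, 10, 8, 5],
    [10, 8, 5, 7, 2, 2, 1, 1, 9, 0],
    [2, 1, 1, 9, 0, 10, 8, 5, 7, 2],
    [4, 9, 11, 1, 8, 0, 0, 3, 3, 6],
    [1, 8, 0, 0, 3, 3, 6, 4, 9, 11],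
    [11, 1, 8, 0, 0, 3, 3, 6, 4, 9],
    [8, 5, 7, 2, 2, 1, 1, 9, 0, 10],
    [1, 7, 10, 1, 9, 0, 9],
    [8, 1, 8, 0, 11, 6, 0],
    [7, 10, 1, 9, 0, 9, 1],
    [10, 1, 9, 0, 9, 1, 7],
    [2, 0, 2, 2, 2, 5, 1, 9, 0],
    [1, 3, 1, 8, 0, 4, 3, 3, 3],
    [0, 8, 1, 8, 0, 11, 6],
    [6, 0, 8, 1, 8, 0, 11],
    [1, 8, 0, 4, 3, 3, 3, 1, 3],
    [2, 2, 2, 5, 1, 9, 0, 2, 0],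
    [5, 1, 9, 0, 2, 0, 2, 2, 2],
    [7, 4, 7, 4, 7, 4, 7, 4, 7, 4],
    [1, 9, 0, 2, 0, 2, 2, 2, 5],
    [11, 6, 0, 8, 1, 8, 0],
    [3, 3, 3, 1, 3, 1, 8, 0, 4],
    [2, 5, 1, 9, 0, 2, 0, 2, 2],
    [5, 6, 5, 6, 5, 6, 5, 6, 5, 6],
    [4, 3, 3, 3, 1, 3, 1, 8, 0],
    [1, 9, 0, 9, 1, 7, 10],
    [9, 1, 7, 10, 1, 9, 0],
    [11, 8, 11, 8, 11, 8, 11, 8, 11, 8],
    [1, 8, 0, 11, 6, 0, 8],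
    [9, 10, 9, 10, 9, 10, 9, 10, 9, 10],
    [3, 3, 6, 2, 2, 0, 3, 3, 5, 7],
    [5, 7, 3, 3, 6, 2, 2, 0, 3, 3],
    [4, 9, 10, 8, 4, 9, 10, 8],
    [1, 8, 0, 0, 3, 6, 4, 7, 2, 2, 2, 1],
    [3, 6, 4, 7, 2, 2, 2, 1, 1, 8, 0, 0],
    [9, 0, 10, 1, 8, 0, 9, 0, 10, 1, 8, 0],
    [1, 9, 0, 10, 8, 11, 1, 8, 0, 2, 2, 1, 6, 4],
    [2, 2, 1, 6, 4, 1, 9, 0, 10, 8, 11, 1, 8, 0],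
    [0, 3, 3, 5, 7, 3, 3, 6, 2, 2],
    [6, 4, 1, 9, 0, 10, 8, 11, 1, 8, 0, 2, 2, 1],
    [4, 7, 2, 2, 2, 1, 1, 8, 0, 0, 3, 6],
    [6, 2, 2, 0, 3, 3, 5, 7, 3, 3],
    [1, 8, 0, 10, 8, 0, 3, 3, 1, 1, 9, 0, 9, 11],
    [8, 5, 6, 4, 8, 5, 6, 4],
    [3, 1, 1, 9, 0, 9, 11, 1, 8, 0, 10, 8, 0, 3],
    [2, 2, 2, 1, 1, 8, 0, 0, 3, 6, 4, 7],
    [6, 4, 8, 5, 6, 4, 8, 5],
    [9, 11, 5, 7, 9, 11, 5, 7],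
    [9, 11, 1, 8, 0, 10, 8, 0, 3, 3, 1, 1, 9, 0],
    [0, 3, 3, 1, 1, 9, 0, 9, 11, 1, 8, 0, 10, 8],
    [8, 11, 1, 8, 0, 2, 2, 1, 6, 4, 1, 9, 0, 10],
    [10, 1, 8, 0, 9, 0, 10, 1, 8, 0, 9, 0],
    [10, 8, 4, 9, 10, 8, 4, 9],
    [5, 7, 9, 11, 5, 7, 9, 11],
    [3, 3, 1, 6, 5, 7, 4],
    [5, 6, 4, 7, 0, 2, 2],
    [4, 1, 9, 0, 9, 11, 8, 1, 8, 0],
    [1, 8, 0, 2, 2, 2, 1, 3, 3, 3],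
    [3, 5, 6, 4, 2, 1],
    [8, 0, 2, 2, 7],
    [1, 9, 0, 9, 10, 8, 1, 8, 0, 5],
    [2, 2, 2, 0, 3, 3, 3, 1, 9, 0],
    [0, 3, 5, 7, 4, 2],
    [6, 3, 3, 1, 9],
    [4, 7, 8, 6, 5, 7],
    [1, 8, 0, 10, 1, 8, 0, 10, 9, 11, 8],
    [3, 1, 6, 2, 1, 3, 3],
    [2, 2, 2, 0, 3, 7, 0],
    [6, 4, 7, 9, 6, 5],
    [9, 10, 8, 11, 1, 9, 0, 11, 1, 9, 0],
    [8, 11, 4, 10, 9, 11],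
    [10, 1, 8, 0, 10, 1, 8, 0, 5],
    [10, 8, 11, 5, 10, 9],
    [4, 1, 9, 0, 11, 1, 9, 0, 11]]

/-- The generator and sign of a letter. -/
def symG (g : ℕ) : Fin 6 × Bool := (⟨g / 2 % 6, Nat.mod_lt _ (by omega)⟩, Nat.beq (g % 2) 0)

/-- The letters. -/
noncomputable abbrev letters : Letters (Fin 6) where
  K := 12
  IV := 0xc52d0931c8510c01
  sym := symG
  col := fun a => 2 * a.1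
  RL := RL0
  rels := Rels0.map fun l => FreeGroup.mk (l.map symG)

/-- The relators. -/
abbrev pres : Set (FreeGroup (Fin 6)) := {r | r ∈ letters.rels}

theorem rels_mem : ∀ r ∈ letters.rels, r ∈ pres := fun _ h => h

theorem letters_col : ∀ a, letters.col a < letters.K ∧ letters.sym (letters.col a) = (a, true) := by
  decide +kernel

theorem letters_ok : letters.OK := by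
  refine ⟨?_, ?_, ?_, ?_, ?_⟩ <;> decide +kernel

end Cfsg.Agent.Lib.M24Pres
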