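import Mathlib

/-!
Schreier generators of a finite index subgroup, and a checked sequence of substitutions expressing
them by a few of them.  Used to bound the order of a group given by generators and relations.
-/

set_option autoImplicit false

namespace Cfsg.Agent.Lib.M24Pres

/-- Free reduction for a given inversion of letters. -/
def red (iv : ℕ → ℕ) : List ℕ → List ℕ
  | [] => []
  | a :: l => match red iv l with
    | [] => [a]
    | b :: t => if Nat.beq b (iv a) then t else a :: b :: t

/-- The formal inverse of a word. -/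
def invW (iv : ℕ → ℕ) (l : List ℕ) : List ℕ := (l.map iv).reverse

variable {G : Type*} [Group G]

theorem prod_red (iv : ℕ → ℕ) (f : ℕ → G) (h : ∀ a, f (iv a) = (f a)⁻¹) :
    ∀ l : List ℕ, ((red iv l).map f).prod = (l.map f).prod
  | [] => rfl
  | a :: l => by
    have ih := prod_red iv f h l
    rw [red]
    generalize red iv l = m at ih
    cases m with
    | nil => simp only [List.map_cons, List.prod_cons, ← ih]
    | cons b t =>
      simp only [List.map_cons, List.prod_cons] at ih ⊢
      split
      · rename_i hb
        rw [Nat.eq_of_beq_eq_true hb, h a] at ih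
        rw [← ih, mul_inv_cancel_left]
      · simp only [List.map_cons, List.prod_cons, ← ih]

theorem prod_invW (iv : ℕ → ℕ) (f : ℕ → G) (h : ∀ a, f (iv a) = (f a)⁻¹) (l : List ℕ) :
    ((invW iv l).map f).prod = ((l.map f).prod)⁻¹ := by
  rw [invW, List.map_reverse, List.map_map, show (f ∘ iv) = fun a => (f a)⁻¹ from funext h,
    List.prod_inv_reverse, List.map_map]
  rfl

/-- Signed variables: `2e` is the variable `e`, `2e+1` its inverse. -/
def flip1 (v : ℕ) : ℕ := if Nat.beq (v % 2) 0 then v + 1 else v - 1

/-- The value of a signed variable. -/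
def sval (V : ℕ → G) (v : ℕ) : G := if Nat.beq (v % 2) 0 then V (v / 2) else (V (v / 2))⁻¹

theorem sval_flip (V : ℕ → G) (v : ℕ) : sval V (flip1 v) = (sval V v)⁻¹ := by
  rcases Nat.mod_two_eq_zero_or_one v with h | h
  · simp [sval, flip1, h, show (v + 1) % 2 = 1 by omega, show (v + 1) / 2 = v / 2 by omega]
  · simp [sval, flip1, h, show (v - 1) % 2 = 0 by omega, show (v - 1) / 2 = v / 2 by omega]

/-- Substitution into a word of signed variables, then reduction. -/
def subst (σ : ℕ → List ℕ) (w : List ℕ) : List ℕ :=
  red flip1 (w.flatMap fun v =>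
    if Nat.beq (v % 2) 0 then σ (v / 2) else invW flip1 (σ (v / 2)))

theorem prod_subst (V : ℕ → G) (σ : ℕ → List ℕ) (hσ : ∀ e, ((σ e).map (sval V)).prod = V e)
    (w : List ℕ) : ((subst σ w).map (sval V)).prod = (w.map (sval V)).prod := by
  rw [subst, prod_red _ _ (sval_flip V)]
  induction w with
  | nil => simp
  | cons v w ih =>
    rw [List.flatMap_cons, List.map_append, List.prod_append, ih, List.map_cons, List.prod_cons]
    congr 1
    unfold sval
    by_cases h : Nat.beq (v % 2) 0 = true
    · rw [if_pos h, if_pos h]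
      exact hσ _
    · rw [if_neg h, if_neg h]
      exact (prod_invW flip1 (sval V) (sval_flip V) _).trans (congrArg _ (hσ _))

/-- A Schreier certificate: coset table (three letters per coset), transversal words, and the
signed variable attached to each edge (empty for tree edges). -/
structure SData where
  n : ℕ
  tab : List ℕ
  tw : List (List ℕ)
  lab : List (List ℕ)
  edges : List ℕ

variable (d : SData)

/-- The three letters are x, y and the inverse of y; the first is an involution. -/
def iv3 : ℕ → ℕ
  | 0 => 0
  | 1 => 2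
  | 2 => 1
  | c => c

def SData.T (i c : ℕ) : ℕ := d.tab.getD (3 * i + c) 0

def SData.t (i : ℕ) : List ℕ := d.tw.getD i []

def SData.L (i c : ℕ) : List ℕ := d.lab.getD (3 * i + c) []

/-- The interpretation of the three letters. -/
def lval (x y : G) : ℕ → G
  | 0 => x
  | 1 => y
  | 2 => y⁻¹
  | _ => 1

theorem lval_iv3 {x : G} (hx : x * x = 1) (y : G) (c : ℕ) :
    lval x y (iv3 c) = (lval x y c)⁻¹ := by
  have hxi : x = x⁻¹ := mul_eq_one_iff_eq_inv.1 hx
  match c with
  | 0 => exact hxi
  | 1 => rfl
  | 2 => exact (inv_inv y).symm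
  | _ + 3 => exact inv_one.symm

/-- The value of a word in the three letters. -/
def wval (x y : G) (l : List ℕ) : G := (l.map (lval x y)).prod

/-- A Schreier generator. -/
def SData.S (x y : G) (i c : ℕ) : G :=
  wval x y (d.t i) * lval x y c * (wval x y (d.t (d.T i c)))⁻¹

/-- The value of a variable: the Schreier generator of its edge. -/
def SData.V (x y : G) (e : ℕ) : G := d.S x y (d.edges.getD e 0 / 3) (d.edges.getD e 0 % 3)

/-- The check of one edge. -/
def SData.okEdge (i c : ℕ) : Bool :=
  Nat.blt (d.T i c) d.n &&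
  match d.L i c with
  | [] => decide (red iv3 (d.t i ++ [c]) = d.t (d.T i c))
  | [v] =>
    if Nat.beq (v % 2) 0 then Nat.beq (d.edges.getD (v / 2) 0) (3 * i + c)
    else Nat.beq (d.edges.getD (v / 2) 0) (3 * d.T i c + iv3 c) && Nat.beq (d.T (d.T i c) (iv3 c)) i
  | _ => false

/-- All checks on the table. -/
def SData.ok : Bool :=
  decide (d.t 0 = []) && Nat.blt 0 d.n &&
    (List.range d.n).all fun i => [0, 1, 2].all fun c => d.okEdge i c

theorem iv3_iv3 : ∀ c, iv3 (iv3 c) = c
  | 0 => rfl
  | 1 => rfl
  | 2 => rfl
  | _ + 3 => rfl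

theorem SData.edge_spec {x : G} (hx : x * x = 1) (y : G) {i c : ℕ} (hc : c < 3)
    (h : d.okEdge i c = true) : d.S x y i c = ((d.L i c).map (sval (d.V x y))).prod := by
  rw [SData.okEdge, Bool.and_eq_true] at h
  obtain ⟨-, h⟩ := h
  split at h
  · rename_i hL
    rw [hL, List.map_nil, List.prod_nil, SData.S, mul_inv_eq_one,
      ← of_decide_eq_true h, wval, wval, prod_red _ _ (lval_iv3 hx y)]
    simp
  · rename_i v hL
    rw [hL, List.map_cons, List.map_nil, List.prod_singleton]
    unfold sval SData.V
    split at h
    · rename_i hv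
      rw [if_pos hv, Nat.eq_of_beq_eq_true h, show (3 * i + c) / 3 = i by omega,
        show (3 * i + c) % 3 = c by omega]
    · rename_i hv
      rw [Bool.and_eq_true] at h
      have hc' : iv3 c < 3 := by interval_cases c <;> decide
      rw [if_neg hv, Nat.eq_of_beq_eq_true h.1, show (3 * d.T i c + iv3 c) / 3 = d.T i c by omega,
        show (3 * d.T i c + iv3 c) % 3 = iv3 c by omega]
      unfold SData.S
      rw [Nat.eq_of_beq_eq_true h.2, lval_iv3 hx y]
      group
  · exact absurd h (by simp)

/-- The end of a path. -/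
def SData.endpt : ℕ → List ℕ → ℕ
  | i, [] => i
  | i, c :: l => SData.endpt (d.T i c) l

/-- The variables along a path. -/
def SData.path : ℕ → List ℕ → List ℕ
  | i, [] => []
  | i, c :: l => d.L i c ++ SData.path (d.T i c) l

theorem SData.path_spec {x : G} (hx : x * x = 1) (y : G) (hok : d.ok = true) :
    ∀ (l : List ℕ), (∀ c ∈ l, c < 3) → ∀ i < d.n,
      ((d.path i l).map (sval (d.V x y))).prod =
        wval x y (d.t i) * wval x y l * (wval x y (d.t (d.endpt i l)))⁻¹
  | [], _, i, _ => by simp [SData.path, SData.endpt, wval]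
  | c :: l, hl, i, hi => by
    have hok' := hok
    simp only [SData.ok, Bool.and_eq_true, List.all_eq_true] at hok'
    have hc : c < 3 := hl c (by simp)
    have he : d.okEdge i c = true := hok'.2 i (List.mem_range.2 hi) c (by
      interval_cases c <;> simp)
    have hT : d.T i c < d.n := by
      rw [SData.okEdge, Bool.and_eq_true, Nat.blt_eq] at he
      exact he.1
    rw [SData.path, List.map_append, List.prod_append, ← d.edge_spec hx y hc he,
      SData.path_spec hx y hok l (fun c hc => hl c (by simp [hc])) _ hT, SData.endpt, SData.S]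
    simp only [wval, List.map_cons, List.prod_cons]
    group

/-- Replacing one variable by a word. -/
def single (a : ℕ) (W : List ℕ) (e : ℕ) : List ℕ := if Nat.beq e a then W else [2 * e]

/-- A relator at a coset as a reduced word in the current variables, with a conjugating prefix of
length `k` removed, when that is possible. -/
def SData.core (σ : List (List ℕ)) (R : List (List ℕ)) (i r k : ℕ) : Option (List ℕ) :=
  let w := subst (fun e => σ.getD e [2 * e]) (d.path i (R.getD r []))
  let mid := (w.drop k).take (w.length - 2 * k)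
  if Nat.blt i d.n && Nat.blt r R.length && Nat.beq (d.endpt i (R.getD r [])) i &&
      decide (red flip1 (invW flip1 (w.take k) ++ w ++ w.take k) = red flip1 mid) then some mid
  else none

/-- One substitution: the variable at position `pos` of the core of a relator is eliminated. -/
def SData.step (R : List (List ℕ)) (σ : List (List ℕ)) (s : ℕ × ℕ × ℕ × ℕ) : List (List ℕ) :=
  match d.core σ R s.1 s.2.1 s.2.2.1 with
  | none => σ
  | some m =>
    let v := m.getD s.2.2.2 0
    let p := m.take s.2.2.2
    let q := m.drop (s.2.2.2 + 1)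
    if Nat.blt s.2.2.2 m.length then
      let W := red flip1 (if Nat.beq (v % 2) 0 then invW flip1 p ++ invW flip1 q else q ++ p)
      σ.map (subst (single (v / 2) W))
    else σ

/-- The start: every variable stands for itself. -/
def idSub (m : ℕ) : List (List ℕ) := (List.range m).map fun e => [2 * e]

/-- The final substitution. -/
def SData.final (R : List (List ℕ)) (steps : List (ℕ × ℕ × ℕ × ℕ)) : List (List ℕ) :=
  steps.foldl (d.step R) (idSub d.edges.length)

/-- A substitution is correct for values `V`. -/
def Correct (V : ℕ → G) (σ : List (List ℕ)) : Prop :=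
  ∀ e, ((σ.getD e [2 * e]).map (sval V)).prod = V e

theorem sval_two_mul (V : ℕ → G) (e : ℕ) : sval V (2 * e) = V e := by
  simp [sval]

theorem SData.core_spec {x : G} (hx : x * x = 1) (y : G) (hok : d.ok = true)
    (R : List (List ℕ)) (hR : ∀ r ∈ R, (∀ c ∈ r, c < 3) ∧ wval x y r = 1)
    {σ : List (List ℕ)} (hσ : Correct (d.V x y) σ) {i r k : ℕ} {m : List ℕ}
    (h : d.core σ R i r k = some m) : (m.map (sval (d.V x y))).prod = 1 := by
  simp only [SData.core] at h
  split at h
  · rename_i hc
    simp only [Bool.and_eq_true, Nat.blt_eq, Nat.beq_eq, decide_eq_true_eq] at hc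
    obtain ⟨⟨⟨hi, hr⟩, hend⟩, hred⟩ := hc
    cases h
    have hmem : R.getD r [] ∈ R := by rw [List.getD_eq_getElem _ _ hr]; exact List.getElem_mem hr
    have hw : ((subst (fun e => σ.getD e [2 * e]) (d.path i (R.getD r []))).map
        (sval (d.V x y))).prod = 1 := by
      rw [prod_subst _ _ hσ, d.path_spec hx y hok _ (hR _ hmem).1 i hi, hend, (hR _ hmem).2]
      group
    have e := congrArg (fun l : List ℕ => (l.map (sval (d.V x y))).prod) hred
    simp only [prod_red _ _ (sval_flip _), List.map_append, List.prod_append,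
      prod_invW _ _ (sval_flip _), hw, mul_one, inv_mul_cancel] at e
    exact e.symm
  · exact absurd h (by simp)

theorem SData.step_spec {x : G} (hx : x * x = 1) (y : G) (hok : d.ok = true)
    (R : List (List ℕ)) (hR : ∀ r ∈ R, (∀ c ∈ r, c < 3) ∧ wval x y r = 1)
    {σ : List (List ℕ)} (hσ : Correct (d.V x y) σ) (s : ℕ × ℕ × ℕ × ℕ) :
    Correct (d.V x y) (d.step R σ s) := by
  unfold SData.step
  split
  · exact hσ
  rename_i m hm
  have h1 := d.core_spec hx y hok R hR hσ hm
  simp only
  split
  swap
  · exact hσ
  rename_i hpos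
  rw [Nat.blt_eq] at hpos
  set P := ((m.take s.2.2.2).map (sval (d.V x y))).prod
  set Q := ((m.drop (s.2.2.2 + 1)).map (sval (d.V x y))).prod
  have hv : m.getD s.2.2.2 0 = m[s.2.2.2] := List.getD_eq_getElem _ _ hpos
  set v := m.getD s.2.2.2 0
  have hprod : P * (sval (d.V x y) v * Q) = 1 := by
    rw [← h1]
    conv_rhs => rw [← List.take_append_drop s.2.2.2 m, List.drop_eq_getElem_cons hpos]
    rw [List.map_append, List.prod_append, List.map_cons, List.prod_cons, hv]
  have hsv : sval (d.V x y) v = P⁻¹ * Q⁻¹ := by
    rw [eq_inv_mul_iff_mul_eq, ← mul_left_inj Q, inv_mul_cancel, mul_assoc]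
    exact hprod
  set W := red flip1 (if Nat.beq (v % 2) 0 then invW flip1 (m.take s.2.2.2) ++
      invW flip1 (m.drop (s.2.2.2 + 1)) else m.drop (s.2.2.2 + 1) ++ m.take s.2.2.2)
  have hW : (W.map (sval (d.V x y))).prod = d.V x y (v / 2) := by
    simp only [W, prod_red _ _ (sval_flip _)]
    unfold sval at hsv
    split
    · rename_i he
      rw [if_pos he] at hsv
      simp only [List.map_append, List.prod_append, prod_invW _ _ (sval_flip _)]
      exact hsv.symm
    · rename_i he
      rw [if_neg he, ← mul_inv_rev, inv_inj] at hsv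
      simp only [List.map_append, List.prod_append]
      exact hsv.symm
  have hsingle : ∀ e, ((single (v / 2) W e).map (sval (d.V x y))).prod = d.V x y e := by
    intro e
    by_cases he : e = v / 2
    · subst he
      simp only [single, Nat.beq_refl, if_true]
      exact hW
    · simp [single, he, sval_two_mul]
  intro e
  by_cases he : e < σ.length
  · rw [List.getD_eq_getElem _ _ (by simpa using he), List.getElem_map, prod_subst _ _ hsingle,
      ← List.getD_eq_getElem σ [2 * e] he]
    exact hσ e
  · rw [List.getD_eq_default _ _ (by simpa using Nat.le_of_not_lt he)]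
    simp [sval_two_mul]

theorem SData.final_spec {x : G} (hx : x * x = 1) (y : G) (hok : d.ok = true)
    (R : List (List ℕ)) (hR : ∀ r ∈ R, (∀ c ∈ r, c < 3) ∧ wval x y r = 1)
    (steps : List (ℕ × ℕ × ℕ × ℕ)) : Correct (d.V x y) (d.final R steps) := by
  suffices h : ∀ σ, Correct (d.V x y) σ → Correct (d.V x y) (steps.foldl (d.step R) σ) by
    refine h _ fun e => ?_
    by_cases he : e < d.edges.length
    · simp [idSub, List.getD_eq_getElem?_getD, List.getElem?_range he, sval_two_mul]
    · rw [List.getD_eq_default _ _ (by simpa [idSub] using Nat.le_of_not_lt he)]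
      simp [sval_two_mul]
  induction steps with
  | nil => exact fun σ h => h
  | cons s l ih => exact fun σ h => ih _ (d.step_spec hx y hok R hR h s)

/-- The subgroup generated by `x` and `y` is covered by cosets of a subgroup containing all
Schreier generators. -/
theorem SData.card_closure_le {x : G} (hx : x * x = 1) {y : G} (hy : y ^ 3 = 1)
    (hok : d.ok = true) (H : Subgroup G) {B : ℕ} (hH : Nat.card H ≠ 0 ∧ Nat.card H ≤ B)
    (hgen : ∀ i < d.n, ∀ c < 3, d.S x y i c ∈ H) :
    Nat.card (Subgroup.closure ({x, y} : Set G)) ≠ 0 ∧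
      Nat.card (Subgroup.closure ({x, y} : Set G)) ≤ d.n * B := by
  haveI : Finite H := Nat.finite_of_card_ne_zero hH.1
  set f : Fin d.n × H → G := fun p => (p.2 : G) * wval x y (d.t p.1.1) with hf
  have hok' := hok
  simp only [SData.ok, Bool.and_eq_true, Nat.blt_eq, decide_eq_true_eq, List.all_eq_true] at hok'
  have hT : ∀ i < d.n, ∀ c < 3, d.T i c < d.n := by
    intro i hi c hc
    have := hok'.2 i (List.mem_range.2 hi) c (by interval_cases c <;> simp)
    rw [SData.okEdge, Bool.and_eq_true, Nat.blt_eq] at this
    exact this.1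
  have hstep : ∀ g ∈ Set.range f, ∀ c < 3, g * lval x y c ∈ Set.range f := by
    rintro _ ⟨⟨⟨i, hi⟩, h⟩, rfl⟩ c hc
    refine ⟨⟨⟨d.T i c, hT i hi c hc⟩, ⟨h * d.S x y i c, H.mul_mem h.2 (hgen i hi c hc)⟩⟩, ?_⟩
    simp only [f, SData.S]
    group
  have hsub : (Subgroup.closure ({x, y} : Set G) : Set G) ⊆ Set.range f := by
    intro g hg
    induction hg using Subgroup.closure_induction_right with
    | one => exact ⟨⟨⟨0, hok'.1.2⟩, 1⟩, by simp [f, hok'.1.1, wval]⟩
    | mul_right a _ b hb ih =>
      rcases hb with rfl | rfl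
      · exact hstep _ ih 0 (by omega)
      · exact hstep _ ih 1 (by omega)
    | mul_inv_cancel a _ b hb ih =>
      rcases hb with rfl | rfl
      · rw [show b⁻¹ = lval b y 0 from (mul_eq_one_iff_eq_inv.1 hx).symm]
        exact hstep _ ih 0 (by omega)
      · exact hstep _ ih 2 (by omega)
  have hfin : Finite (Subgroup.closure ({x, y} : Set G)) :=
    ((Set.finite_range f).subset hsub).to_subtype
  refine ⟨Nat.card_pos.ne', ?_⟩
  calc Nat.card (Subgroup.closure ({x, y} : Set G)) ≤ Nat.card (Set.range f) :=
        Nat.card_mono (Set.finite_range f) hsub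
    _ ≤ Nat.card (Fin d.n × H) := Finite.card_range_le f
    _ ≤ d.n * B := by rw [Nat.card_prod, Nat.card_fin]; exact Nat.mul_le_mul_left _ hH.2

end Cfsg.Agent.Lib.M24Pres
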